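import Groth.Agent.Lib.RankComm14.Reductive

/-!
Extension of a homomorphism from the torus and root groups of a rank one system to the group.
-/

universe u

open CategoryTheory MonoidalCategory CartesianMonoidalCategory MonObj GrpObj AlgebraicGeometry
open CategoryTheory.Limits

set_option backward.isDefEq.respectTransparency false

namespace GrothLib.RankGen14

open GrothLib.RedPts GrothLib.RankOne GrothLib.RankCell14

variable {S : Scheme.{u}}

section Alg

variable {A : Type*} [CommRing A] {Ti : Type*} [Group Ti] {P : Type*} [Group P] (D : Datum A Ti P)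

theorem w_mul_cell (hwv : ∀ c, D.w 1 * D.v c = D.u (-c) * D.w 1) (c : Aˣ) (b : A) (t : Ti) :
    D.w 1 * (D.v (c : A) * D.i t * D.u b) =
      D.v (-((c⁻¹ : Aˣ) : A)) * D.i (D.av c * t) * D.u (((D.χ t)⁻¹ : Aˣ) * ((c⁻¹ : Aˣ) : A) + b) := by
  have e : D.w 1 * D.v (c : A) = D.v (-((c⁻¹ : Aˣ) : A)) * D.C c * D.u ((c⁻¹ : Aˣ) : A) := by
    rw [hwv, Datum.w, inv_one, Units.val_one, ← _root_.mul_assoc, ← _root_.mul_assoc, ← D.u_add,
      D.rule' _ _ c (by ring), neg_one_mul, _root_.mul_assoc _ (D.u _), ← D.u_add]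
    congr 2
    linear_combination -c.inv_mul + (0 : A) * c.mul_inv
  rw [← _root_.mul_assoc, ← _root_.mul_assoc, e, map_mul, D.u_add]
  calc _ = D.v (-((c⁻¹ : Aˣ) : A)) * D.C c * (D.u ((c⁻¹ : Aˣ) : A) * D.i t) * D.u b := by group
    _ = _ := by rw [D.u_i]; simp only [Datum.C, MonoidHom.coe_comp, Function.comp_apply]; group

theorem u_mul_cell (c a b : A) (t : Ti) (z : Aˣ) (hz : (z : A) = 1 + c * a) :
    D.u c * (D.v a * D.i t * D.u b) =
      D.v (a * (z⁻¹ : Aˣ)) * D.i (D.av z * t) * D.u (((D.χ t)⁻¹ : Aˣ) * (c * (z⁻¹ : Aˣ)) + b) := by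
  rw [← _root_.mul_assoc, ← _root_.mul_assoc, D.rule' c a z hz, D.u_add, map_mul]
  calc _ = D.v (a * (z⁻¹ : Aˣ)) * D.C z * (D.u (c * (z⁻¹ : Aˣ)) * D.i t) * D.u b := by group
    _ = _ := by rw [D.u_i]; simp only [Datum.C, MonoidHom.coe_comp, Function.comp_apply]; group

theorem i_mul_cell (s t : Ti) (a b : A) :
    D.i s * (D.v a * D.i t * D.u b) = D.v (((D.χ s)⁻¹ : Aˣ) * a) * D.i (s * t) * D.u b := by
  rw [← _root_.mul_assoc, ← _root_.mul_assoc, D.i_v, map_mul, _root_.mul_assoc (D.v _)]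

theorem v_mul_cell (c a b : A) (t : Ti) :
    D.v c * (D.v a * D.i t * D.u b) = D.v (c + a) * D.i t * D.u b := by
  rw [D.v_add]; group

theorem i_mul_w (hcomm : ∀ s t : Ti, s * t = t * s) (s : Ti) :
    D.i s * D.w 1 = D.w 1 * D.i (s * (D.av (D.χ s))⁻¹) := by
  have h := D.w_conj_i 1 (s * (D.av (D.χ s))⁻¹)
  rw [show (D.C (D.χ (s * (D.av (D.χ s))⁻¹)))⁻¹ * D.i (s * (D.av (D.χ s))⁻¹) = D.i s by
    simp only [Datum.C, MonoidHom.coe_comp, Function.comp_apply]
    rw [← map_inv, ← map_mul, map_mul D.χ, map_inv, D.χav,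
      show D.χ s * (D.χ s * D.χ s)⁻¹ = (D.χ s)⁻¹ by group, map_inv D.av, _root_.inv_inv, ← hcomm,
      inv_mul_cancel_right]] at h
  rw [← h, inv_mul_cancel_right]

theorem sq_mul_cell (a b : A) (t : Ti) :
    D.w 1 * (D.w 1 * (D.v a * D.i t * D.u b)) = D.v a * D.i (D.av (-1) * t) * D.u b := by
  rw [← _root_.mul_assoc, D.w_sq, show D.C (-1) = D.i (D.av (-1)) from rfl, i_mul_cell, D.χav]
  congr 3
  simp

end Alg

variable {G K T : Over S} [GrpObj G] [GrpObj K] [GrpObj T] {i : T ⟶ G} {α : T ⟶ Red.Gm S}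
  {pp pm : Red.Ga S ⟶ G} {av : Red.Gm S ⟶ T} {fT : T ⟶ K} {fα fm : Red.Ga S ⟶ K}

/-- A point of the residue field of a scheme over the base. -/
noncomputable def resPt (X : Over S) (p : X.left) :
    Over.mk (X.left.fromSpecResidueField p ≫ X.hom) ⟶ X :=
  Over.homMk (X.left.fromSpecResidueField p) rfl

theorem mem_of_comp_resPt {X : Over S} {g : X ⟶ G} (p : X.left) (U : G.left.Opens)
    (h : ∀ z, (resPt X p ≫ g).left.base z ∈ U) : g.left.base p ∈ U := by
  have := h (IsLocalRing.closedPoint (X.left.residueField p))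
  rw [Over.comp_left, Scheme.Hom.comp_apply] at this
  rwa [show (resPt X p).left.base (IsLocalRing.closedPoint (X.left.residueField p)) = p from
    Scheme.fromSpecResidueField_apply p _] at this

theorem mem_basicOpen_of_isUnit {X : Over S} {a : Γ(X.left, ⊤)} (p : X.left)
    (h : IsUnit ((resPt X p).left.appTop a)) : p ∈ X.left.basicOpen a := by
  have hp : IsLocalRing.closedPoint (X.left.residueField p) ∈
      (X.left.fromSpecResidueField p) ⁻¹ᵁ X.left.basicOpen a := by
    have h' : IsUnit ((X.left.fromSpecResidueField p).appTop a) := h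
    rw [Scheme.preimage_basicOpen_top]
    erw [Scheme.basicOpen_of_isUnit _ h']
    trivial
  rw [← Scheme.fromSpecResidueField_apply (X := X.left) p (IsLocalRing.closedPoint (X.left.residueField p))]
  exact hp

theorem residue_zero_or (X : Over S) (p : X.left) (a : Γ(X.left, ⊤)) :
    IsUnit ((resPt X p).left.appTop a) ∨ (resPt X p).left.appTop a = 0 :=
  isUnit_or_eq_zero (K := X.left.residueField p) _

theorem comp_cellD (H : Hyp i α pp pm av) {X' X : Over S} (k : X' ⟶ X) (a b : Γ(X.left, ⊤)) (t : X ⟶ T) :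
    k ≫ ((H.datum X).v a * (H.datum X).i t * (H.datum X).u b) =
      (H.datum X').v (k.left.appTop a) * (H.datum X').i (k ≫ t) * (H.datum X').u (k.left.appTop b) := by
  rw [MonObj.comp_mul, MonObj.comp_mul, H.u_comp, H.v_comp, ← H.i_eq, ← H.i_eq, Category.assoc]

theorem w_mul_v (H : Hyp i α pp pm av) {X : Over S} (c : Γ(X.left, ⊤)) :
    (H.datum X).w 1 * (H.datum X).v c = (H.datum X).u (-c) * (H.datum X).w 1 := by
  rw [← GrothLib.RankComm14.w_conj_v H c, inv_mul_cancel_right]

theorem v_mul_w (H : Hyp i α pp pm av) {X : Over S} (c : Γ(X.left, ⊤)) :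
    (H.datum X).v c * (H.datum X).w 1 = (H.datum X).w 1 * (H.datum X).u (-c) := by
  have h := H.w_conj_u (Y := X) 1 (-c)
  rw [inv_one, Units.val_one, _root_.one_mul, _root_.one_mul, neg_neg] at h
  rw [← h, inv_mul_cancel_right]

variable (H : Hyp i α pp pm av) (H' : Hyp fT α fα fm av) (hT : Red.IsTorus T)
  [IsOpenImmersion (cell i pp pm).left]

include H hT in
/-- The first coordinate of a translated point lying in the cell is a unit. -/
theorem isUnit_of_overlap {X : Over S} {a b a' b' : Γ(X.left, ⊤)} {t t' : X ⟶ T}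
    (h : (H.datum X).w 1 * ((H.datum X).v a * (H.datum X).i t * (H.datum X).u b) =
      (H.datum X).v a' * (H.datum X).i t' * (H.datum X).u b') : IsUnit a := by
  haveI := H.monI
  refine X.left.toRingedSpace.isUnit_of_isUnit_germ ⊤ a fun p _ => ?_
  suffices hp : p ∈ X.left.basicOpen a by rwa [Scheme.mem_basicOpen X.left a p trivial] at hp
  refine mem_basicOpen_of_isUnit p ((residue_zero_or X p a).resolve_right fun h0 => ?_)
  have e := congrArg (resPt X p ≫ ·) h
  simp only [MonObj.comp_mul (resPt X p) ((H.datum X).w 1), w1_comp, comp_cellD, h0] at e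
  have hne : (1 : Γ((Over.mk (X.left.fromSpecResidueField p ≫ X.hom)).left, ⊤)) ≠ 0 := fun h01 => by
    have h := congrArg (Scheme.ΓSpecIso (X.left.residueField p)).hom.hom h01
    erw [map_one, map_zero] at h
    exact one_ne_zero (α := X.left.residueField p) h
  generalize (resPt X p).left.appTop b = b₁ at e
  generalize (resPt X p).left.appTop a' = a₁ at e
  generalize (resPt X p).left.appTop b' = b₁' at e
  generalize resPt X p ≫ t = t₁ at e
  generalize resPt X p ≫ t' = t₁' at e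
  generalize hD : H.datum (Over.mk (X.left.fromSpecResidueField p ≫ X.hom)) = D at e
  rw [Datum.v_zero, _root_.one_mul] at e
  refine w_mul_cell_ne_one H hT hne a₁ (((D.χ (t₁⁻¹ * D.av (-1)))⁻¹ : Units _) * (b₁' + -b₁))
    (t₁' * (t₁⁻¹ * D.av (-1))) ?_
  rw [hD]
  have e1 : D.v a₁ * D.i (t₁' * (t₁⁻¹ * D.av (-1))) *
      D.u (((D.χ (t₁⁻¹ * D.av (-1)))⁻¹ : Units _) * (b₁' + -b₁)) =
      D.v a₁ * D.i t₁' * D.u b₁' * (D.u (-b₁) * (D.i t₁)⁻¹ * D.C (-1)) := by
    have e2 : ∀ (s : Over.mk (X.left.fromSpecResidueField p ≫ X.hom) ⟶ T) (c : Γ((Over.mk (X.left.fromSpecResidueField p ≫ X.hom)).left, ⊤)),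
        D.u (((D.χ s)⁻¹ : Units _) * c) = (D.i s)⁻¹ * D.u c * D.i s := fun s c => by
      rw [_root_.mul_assoc, D.u_i, inv_mul_cancel_left]
    rw [e2, D.u_add, show D.C (-1) = D.i (D.av (-1)) from rfl, map_mul D.i t₁', map_mul, map_inv]
    group
  rw [e1, ← e, D.u_neg, show D.w 1 * (D.w 1 * (D.i t₁ * D.u b₁) * ((D.u b₁)⁻¹ * (D.i t₁)⁻¹ * D.C (-1))) =
    D.w 1 * D.w 1 * D.C (-1) by group, D.w_sq, ← map_mul, neg_mul_neg, _root_.one_mul, map_one]

/-- Gluing morphisms along a cover by two opens of a scheme. -/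
theorem glue_two {Y : Over S} (U : Bool → Y.left.Opens) (hU : TopologicalSpace.IsOpenCover U)
    (φ : ∀ j, Over.mk ((U j).ι ≫ Y.hom) ⟶ K)
    (hφ : ∀ (X : Over S) (k₁ : X ⟶ Over.mk ((U true).ι ≫ Y.hom)) (k₂ : X ⟶ Over.mk ((U false).ι ≫ Y.hom)),
      k₁ ≫ (Over.homMk (U true).ι rfl : _ ⟶ Y) = k₂ ≫ Over.homMk (U false).ι rfl → k₁ ≫ φ true = k₂ ≫ φ false) :
    ∃ f : Y ⟶ K, ∀ j, (Over.homMk (U j).ι rfl : Over.mk ((U j).ι ≫ Y.hom) ⟶ Y) ≫ f = φ j := by
  let 𝒰 := Scheme.openCoverOfIsOpenCover Y.left U hU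
  let f : Y.left ⟶ K.left := 𝒰.glueMorphisms (fun j => (φ j).left) (fun x y => by
    let X : Over S := Over.mk (pullback.fst (U x).ι (U y).ι ≫ (U x).ι ≫ Y.hom)
    let k₁ : X ⟶ Over.mk ((U x).ι ≫ Y.hom) := Over.homMk (pullback.fst (U x).ι (U y).ι) rfl
    let k₂ : X ⟶ Over.mk ((U y).ι ≫ Y.hom) := Over.homMk (pullback.snd (U x).ι (U y).ι) (by
      change pullback.snd (U x).ι (U y).ι ≫ (U y).ι ≫ Y.hom = pullback.fst (U x).ι (U y).ι ≫ (U x).ι ≫ Y.hom
      rw [← pullback.condition_assoc])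
    have hk : k₁ ≫ (Over.homMk (U x).ι rfl : _ ⟶ Y) = k₂ ≫ Over.homMk (U y).ι rfl :=
      Over.OverMorphism.ext pullback.condition
    cases x <;> cases y
    · have : k₁ = k₂ := Over.OverMorphism.ext ((cancel_mono (U false).ι).mp pullback.condition)
      exact congrArg (fun k => (k ≫ φ false).left) this
    · exact congrArg Over.Hom.left (hφ X k₂ k₁ hk.symm).symm
    · exact congrArg Over.Hom.left (hφ X k₁ k₂ hk)
    · have : k₁ = k₂ := Over.OverMorphism.ext ((cancel_mono (U true).ι).mp pullback.condition)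
      exact congrArg (fun k => (k ≫ φ true).left) this)
  refine ⟨Over.homMk f (𝒰.hom_ext _ _ fun j => ?_), fun j => Over.OverMorphism.ext (𝒰.ι_glueMorphisms _ _ j)⟩
  rw [← Category.assoc, 𝒰.ι_glueMorphisms]
  exact Over.w (φ j)

include H hT in
/-- The first coordinate of a translated point in the cell, inverted. -/
theorem overlap_eq (H' : Hyp fT α fα fm av) {X : Over S} {a b a' b' : Γ(X.left, ⊤)} {t t' : X ⟶ T}
    (h : (H.datum X).w 1 * ((H.datum X).v a * (H.datum X).i t * (H.datum X).u b) =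
      (H.datum X).v a' * (H.datum X).i t' * (H.datum X).u b') :
    (H'.datum X).w 1 * ((H'.datum X).v a * (H'.datum X).i t * (H'.datum X).u b) =
      (H'.datum X).v a' * (H'.datum X).i t' * (H'.datum X).u b' := by
  obtain ⟨c, rfl⟩ := isUnit_of_overlap H hT h
  obtain ⟨e1, e2, e3⟩ := cell_inj' H ((w_mul_cell (H.datum X) (w_mul_v H) c b t).symm.trans h)
  subst e1 e2 e3
  exact w_mul_cell (H'.datum X) (w_mul_v H') c b t

variable [LocallyOfFiniteType G.hom] (hconn : ∀ s : S, ConnectedSpace (Red.geomFibre s G).left)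

/-- A morphism with the prescribed values on the cell and its translate. -/
def Prescribed (f : G ⟶ K) : Prop :=
  ∀ (X : Over S) (a b : Γ(X.left, ⊤)) (t : X ⟶ T),
    ((H.datum X).v a * (H.datum X).i t * (H.datum X).u b) ≫ f =
        (H'.datum X).v a * (H'.datum X).i t * (H'.datum X).u b ∧
      ((H.datum X).w 1 * ((H.datum X).v a * (H.datum X).i t * (H.datum X).u b)) ≫ f =
        (H'.datum X).w 1 * ((H'.datum X).v a * (H'.datum X).i t * (H'.datum X).u b)

/-- The opens of a point in the cell and in its translate. -/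
noncomputable def pieces {X : Over S} (g : X ⟶ G) (j : Bool) : X.left.Opens :=
  (if j then g else ((H.datum X).w 1)⁻¹ * g).left ⁻¹ᵁ (cell i pp pm).left.opensRange

include hconn in
theorem isOpenCover_pieces {X : Over S} (g : X ⟶ G) : TopologicalSpace.IsOpenCover (pieces H g) := by
  refine TopologicalSpace.Opens.ext (Set.eq_univ_of_forall fun z => ?_)
  rw [TopologicalSpace.Opens.coe_iSup, Set.mem_iUnion]
  rcases mem_or_mem H hconn g z with h | h
  · exact ⟨true, h⟩
  · exact ⟨false, h⟩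

theorem piece_coords {X : Over S} (g : X ⟶ G) (j : Bool) {X' : Over S} (k : X' ⟶ X)
    (hk : ∀ z, k.left.base z ∈ pieces H g j) :
    ∃ (a b : Γ(X'.left, ⊤)) (t : X' ⟶ T),
      k ≫ g = (if j then 1 else (H.datum X').w 1) * ((H.datum X').v a * (H.datum X').i t * (H.datum X').u b) := by
  cases j with
  | true =>
    obtain ⟨a, t, b, e⟩ := exists_coords' H (k ≫ g) (fun z => by
      rw [Over.comp_left, Scheme.Hom.comp_apply]; exact hk z)
    exact ⟨a, b, t, by rw [e]; simp⟩
  | false =>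
    have e0 : ((H.datum X').w 1)⁻¹ * (k ≫ g) = k ≫ (((H.datum X).w 1)⁻¹ * g) := by
      rw [MonObj.comp_mul, GrpObj.comp_inv, w1_comp]
    obtain ⟨a, t, b, e⟩ := exists_coords' H (((H.datum X').w 1)⁻¹ * (k ≫ g)) (fun z => by
      rw [e0, Over.comp_left, Scheme.Hom.comp_apply]; exact hk z)
    exact ⟨a, b, t, inv_mul_eq_iff_eq_mul.mp e⟩

include H H' hT hconn in
theorem exists_prescribed : ∃ f : G ⟶ K, Prescribed H H' f := by
  let o : ∀ j, Over.mk ((pieces H (𝟙 G) j).ι ≫ G.hom) ⟶ G := fun j => Over.homMk (pieces H (𝟙 G) j).ι rfl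
  have hc := fun j => piece_coords H (𝟙 G) j (o j) (fun z => z.2)
  choose a b t hab using hc
  let φ : ∀ j, Over.mk ((pieces H (𝟙 G) j).ι ≫ G.hom) ⟶ K := fun j =>
    (if j then 1 else (H'.datum _).w 1) * ((H'.datum _).v (a j) * (H'.datum _).i (t j) * (H'.datum _).u (b j))
  obtain ⟨f, hf⟩ := glue_two (pieces H (𝟙 G)) (isOpenCover_pieces H hconn (𝟙 G)) φ (fun X k₁ k₂ hk => by
    have e1 := congrArg (k₁ ≫ ·) (hab true)
    have e2 := congrArg (k₂ ≫ ·) (hab false)
    simp only [Category.comp_id, ↓reduceIte, Bool.false_eq_true, _root_.one_mul, MonObj.comp_mul k₂ ((H.datum _).w 1),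
      w1_comp, comp_cellD] at e1 e2
    have := overlap_eq H hT H' (e2.symm.trans (hk.symm.trans e1))
    simp only [φ, ↓reduceIte, Bool.false_eq_true, _root_.one_mul, MonObj.comp_mul k₂ ((H'.datum _).w 1),
      w1_comp, comp_cellD]
    exact this.symm)
  refine ⟨f, fun X a₀ b₀ t₀ => ?_⟩
  have key : ∀ (j : Bool) (g : X ⟶ G),
      g = (if j then 1 else (H.datum X).w 1) * ((H.datum X).v a₀ * (H.datum X).i t₀ * (H.datum X).u b₀) →
      g ≫ f = (if j then 1 else (H'.datum X).w 1) * ((H'.datum X).v a₀ * (H'.datum X).i t₀ * (H'.datum X).u b₀) := by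
    intro j g hg
    have hmem : ∀ z, g.left.base z ∈ pieces H (𝟙 G) j := by
      intro z
      change ((if j then 𝟙 G else ((H.datum G).w 1)⁻¹ * 𝟙 G).left).base (g.left.base z) ∈ Set.range _
      rw [← Scheme.Hom.comp_apply, ← Over.comp_left]
      refine mem_range_datum H _ a₀ b₀ t₀ ?_ z
      cases j with
      | true => simpa using hg
      | false =>
        simp only [Bool.false_eq_true, ↓reduceIte] at hg ⊢
        rw [MonObj.comp_mul, GrpObj.comp_inv, w1_comp, Category.comp_id, hg, inv_mul_cancel_left]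
    let l : X.left ⟶ (pieces H (𝟙 G) j : Scheme.{u}) := IsOpenImmersion.lift (pieces H (𝟙 G) j).ι g.left (by
      rw [Scheme.Opens.range_ι]; rintro _ ⟨z, rfl⟩; exact hmem z)
    have hl : l ≫ (pieces H (𝟙 G) j).ι = g.left := IsOpenImmersion.lift_fac _ _ _
    let k : X ⟶ Over.mk ((pieces H (𝟙 G) j).ι ≫ G.hom) := Over.homMk l (by
      change l ≫ (pieces H (𝟙 G) j).ι ≫ G.hom = X.hom
      rw [← Category.assoc, hl, Over.w])
    have hk : k ≫ o j = g := Over.OverMorphism.ext hl
    have e := congrArg (k ≫ ·) (hab j)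
    simp only [Category.comp_id, hk, hg] at e
    rw [← hk, Category.assoc, hf j]
    cases j with
    | true =>
      simp only [φ, ↓reduceIte, _root_.one_mul, comp_cellD] at e ⊢
      obtain ⟨e1, e2, e3⟩ := cell_inj' H e
      rw [e1, e2, e3]
    | false =>
      simp only [φ, Bool.false_eq_true, ↓reduceIte, MonObj.comp_mul k ((H'.datum _).w 1),
        MonObj.comp_mul k ((H.datum _).w 1), w1_comp, comp_cellD, mul_left_cancel_iff] at e ⊢
      obtain ⟨e1, e2, e3⟩ := cell_inj' H e
      rw [e1, e2, e3]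
  exact ⟨by simpa using key true _ (by simp), key false _ rfl⟩

include hconn in
theorem eq_of_pieces {X : Over S} (g : X ⟶ G) {A B : X ⟶ K}
    (h : ∀ (j : Bool) (X' : Over S) (k : X' ⟶ X) (a b : Γ(X'.left, ⊤)) (t : X' ⟶ T),
      k ≫ g = (if j then 1 else (H.datum X').w 1) * ((H.datum X').v a * (H.datum X').i t * (H.datum X').u b) →
      k ≫ A = k ≫ B) : A = B := by
  apply Over.OverMorphism.ext
  refine (Scheme.openCoverOfIsOpenCover X.left _ (isOpenCover_pieces H hconn g)).hom_ext _ _ fun j => ?_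
  let o : Over.mk ((pieces H g j).ι ≫ X.hom) ⟶ X := Over.homMk (pieces H g j).ι rfl
  obtain ⟨a, b, t, e⟩ := piece_coords H g j o (fun z => z.2)
  exact congrArg Over.Hom.left (h j _ o a b t e)

variable {f : G ⟶ K}

omit [IsOpenImmersion (cell i pp pm).left] [LocallyOfFiniteType G.hom] in
theorem Prescribed.map_v (hf : Prescribed H H' f) {X : Over S} (c : Γ(X.left, ⊤)) :
    (H.datum X).v c ≫ f = (H'.datum X).v c := by
  simpa [Datum.u_zero] using (hf X c 0 1).1

omit [IsOpenImmersion (cell i pp pm).left] [LocallyOfFiniteType G.hom] in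
theorem Prescribed.map_i (hf : Prescribed H H' f) {X : Over S} (t : X ⟶ T) :
    (H.datum X).i t ≫ f = (H'.datum X).i t := by
  simpa [Datum.u_zero, Datum.v_zero] using (hf X 0 0 t).1

omit [IsOpenImmersion (cell i pp pm).left] [LocallyOfFiniteType G.hom] in
theorem Prescribed.map_u (hf : Prescribed H H' f) {X : Over S} (c : Γ(X.left, ⊤)) :
    (H.datum X).u c ≫ f = (H'.datum X).u c := by
  simpa [Datum.v_zero] using (hf X 0 c 1).1

omit [IsOpenImmersion (cell i pp pm).left] [LocallyOfFiniteType G.hom] in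
theorem Prescribed.map_w (hf : Prescribed H H' f) {X : Over S} :
    (H.datum X).w 1 ≫ f = (H'.datum X).w 1 := by
  simpa [Datum.u_zero, Datum.v_zero] using (hf X 0 0 1).2

include hT hconn in
theorem i_mul (hf : Prescribed H H' f) {X : Over S} (s : X ⟶ T) (g : X ⟶ G) :
    ((H.datum X).i s * g) ≫ f = (H'.datum X).i s * (g ≫ f) := by
  refine eq_of_pieces H hconn g fun j X' k a b t hg => ?_
  have hs : k ≫ ((H.datum X).i s) = (H.datum X').i (k ≫ s) := by rw [← H.i_eq, ← H.i_eq, Category.assoc]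
  have hs' : k ≫ ((H'.datum X).i s) = (H'.datum X').i (k ≫ s) := by rw [← H'.i_eq, ← H'.i_eq, Category.assoc]
  rw [← Category.assoc, MonObj.comp_mul, MonObj.comp_mul, ← Category.assoc, hs, hs', hg]
  cases j with
  | true =>
    simp only [↓reduceIte, _root_.one_mul]
    rw [(hf X' a b t).1, i_mul_cell, i_mul_cell, (hf X' _ _ _).1]
    rfl
  | false =>
    simp only [Bool.false_eq_true, ↓reduceIte]
    rw [(hf X' a b t).2, ← _root_.mul_assoc, i_mul_w _ (comm_torus hT), _root_.mul_assoc, i_mul_cell,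
      (hf X' _ _ _).2, ← _root_.mul_assoc ((H'.datum X').i (k ≫ s)), i_mul_w _ (comm_torus hT),
      _root_.mul_assoc ((H'.datum X').w 1), i_mul_cell]
    rfl

include hT hconn in
theorem w_mul (hf : Prescribed H H' f) {X : Over S} (g : X ⟶ G) :
    ((H.datum X).w 1 * g) ≫ f = (H'.datum X).w 1 * (g ≫ f) := by
  refine eq_of_pieces H hconn g fun j X' k a b t hg => ?_
  rw [← Category.assoc, MonObj.comp_mul, MonObj.comp_mul, ← Category.assoc, w1_comp, w1_comp, hg]
  cases j with
  | true =>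
    simp only [↓reduceIte, _root_.one_mul]
    rw [(hf X' a b t).1, (hf X' a b t).2]
  | false =>
    simp only [Bool.false_eq_true, ↓reduceIte]
    rw [(hf X' a b t).2, sq_mul_cell, sq_mul_cell, (hf X' _ _ _).1]
    rfl

include hT hconn in
theorem v_mul (hf : Prescribed H H' f) {X : Over S} (c : Γ(X.left, ⊤)) (g : X ⟶ G) :
    ((H.datum X).v c * g) ≫ f = (H'.datum X).v c * (g ≫ f) := by
  refine eq_of_pieces H hconn g fun j X' k a b t hg => ?_
  rw [← Category.assoc, MonObj.comp_mul, MonObj.comp_mul, ← Category.assoc, H.v_comp, H'.v_comp, hg]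
  generalize k.left.appTop c = d
  cases j with
  | true =>
    simp only [↓reduceIte, _root_.one_mul]
    rw [(hf X' a b t).1, v_mul_cell, v_mul_cell, (hf X' _ _ _).1]
  | false =>
    simp only [Bool.false_eq_true, ↓reduceIte]
    rw [(hf X' a b t).2]
    have hX : ∀ {Y : Over S} (a b d : Γ(Y.left, ⊤)) (t : Y ⟶ T), IsUnit (1 + -d * a) →
        ((H.datum Y).v d * ((H.datum Y).w 1 * ((H.datum Y).v a * (H.datum Y).i t * (H.datum Y).u b))) ≫ f =
          (H'.datum Y).v d * ((H'.datum Y).w 1 * ((H'.datum Y).v a * (H'.datum Y).i t * (H'.datum Y).u b)) := by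
      intro Y a b d t hu
      obtain ⟨z, hz⟩ := hu
      rw [← _root_.mul_assoc, v_mul_w H, _root_.mul_assoc ((H.datum Y).w 1), u_mul_cell _ _ _ _ _ z hz,
        (hf Y _ _ _).2, ← _root_.mul_assoc ((H'.datum Y).v d), v_mul_w H', _root_.mul_assoc ((H'.datum Y).w 1),
        u_mul_cell _ _ _ _ _ z hz]
      rfl
    have hY : ∀ {Y : Over S} (a b d : Γ(Y.left, ⊤)) (t : Y ⟶ T), IsUnit a →
        ((H.datum Y).v d * ((H.datum Y).w 1 * ((H.datum Y).v a * (H.datum Y).i t * (H.datum Y).u b))) ≫ f =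
          (H'.datum Y).v d * ((H'.datum Y).w 1 * ((H'.datum Y).v a * (H'.datum Y).i t * (H'.datum Y).u b)) := by
      rintro Y _ b d t ⟨e, rfl⟩
      rw [w_mul_cell _ (w_mul_v H), w_mul_cell _ (w_mul_v H'), v_mul_cell, v_mul_cell, (hf Y _ _ _).1]
      rfl
    let U : Bool → X'.left.Opens := fun j => X'.left.basicOpen (if j then a else 1 + -d * a)
    have hU : TopologicalSpace.IsOpenCover U := by
      refine TopologicalSpace.Opens.ext (Set.eq_univ_of_forall fun p => ?_)
      rw [TopologicalSpace.Opens.coe_iSup, Set.mem_iUnion]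
      rcases residue_zero_or X' p a with h | h
      · exact ⟨true, mem_basicOpen_of_isUnit p h⟩
      · refine ⟨false, mem_basicOpen_of_isUnit p ?_⟩
        simp only [Bool.false_eq_true, ↓reduceIte, map_add, map_mul, h, mul_zero, add_zero, map_one]
        exact isUnit_one
    apply Over.OverMorphism.ext
    refine (Scheme.openCoverOfIsOpenCover X'.left U hU).hom_ext _ _ fun (j : Bool) => ?_
    let o : Over.mk ((U j).ι ≫ X'.hom) ⟶ X' := Over.homMk (U j).ι rfl
    suffices ho : o ≫ ((H.datum X').v d * ((H.datum X').w 1 *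
          ((H.datum X').v a * (H.datum X').i t * (H.datum X').u b))) ≫ f =
        o ≫ ((H'.datum X').v d * ((H'.datum X').w 1 *
          ((H'.datum X').v a * (H'.datum X').i t * (H'.datum X').u b))) from congrArg Over.Hom.left ho
    rw [← Category.assoc, MonObj.comp_mul, MonObj.comp_mul, MonObj.comp_mul o ((H'.datum X').v d),
      MonObj.comp_mul o ((H'.datum X').w 1), comp_cellD, comp_cellD, H.v_comp, H'.v_comp, w1_comp, w1_comp]
    have hu : IsUnit (o.left.appTop (if j then a else 1 + -d * a)) := by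
      have hle : (⊤ : (U j : Scheme.{u}).Opens) ≤ (U j).ι ⁻¹ᵁ X'.left.basicOpen (if j then a else 1 + -d * a) :=
        fun z _ => z.2
      rw [Scheme.preimage_basicOpen_top] at hle
      refine (U j : Scheme.{u}).toRingedSpace.isUnit_of_isUnit_germ ⊤ _ fun z hz => ?_
      have := hle hz
      rwa [Scheme.mem_basicOpen (U j : Scheme.{u}) _ z hz] at this
    cases j with
    | true =>
      simp only [↓reduceIte] at hu
      exact hY _ _ _ _ hu
    | false =>
      simp only [Bool.false_eq_true, ↓reduceIte, map_add, map_mul, map_one, map_neg] at hu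
      exact hX _ _ _ _ hu

include hT hconn in
theorem Prescribed.isMonHom (hf : Prescribed H H' f) : IsMonHom f := by
  have hmul : ∀ (X : Over S) (g g' : X ⟶ G), (g * g') ≫ f = (g ≫ f) * (g' ≫ f) := by
    intro X g g'
    refine eq_of_pieces H hconn g fun j X' k a b t hg => ?_
    rw [← Category.assoc, MonObj.comp_mul, MonObj.comp_mul, ← Category.assoc, ← Category.assoc, hg]
    generalize k ≫ g' = y
    have hu : ∀ y : X' ⟶ G, ((H.datum X').u b * y) ≫ f = (H'.datum X').u b * (y ≫ f) := by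
      intro y
      have e : ∀ {Q : Type u} [Group Q] (D : Datum Γ(X'.left, ⊤) (X' ⟶ T) Q),
          (∀ c, D.w 1 * D.v c = D.u (-c) * D.w 1) → D.u b = D.w 1 * (D.v (-b) * (D.w 1 * D.i (D.av (-1)))) := by
        intro Q _ D hD
        rw [← _root_.mul_assoc (D.w 1) (D.v _), hD, neg_neg, ← _root_.mul_assoc (D.u b * _), _root_.mul_assoc (D.u b) (D.w 1) (D.w 1),
          D.w_sq, show D.C (-1) = D.i (D.av (-1)) from rfl, _root_.mul_assoc (D.u b), ← map_mul, ← map_mul,
          neg_mul_neg, _root_.one_mul, map_one, map_one, _root_.mul_one]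
      rw [e _ (w_mul_v H), e _ (w_mul_v H'), _root_.mul_assoc, _root_.mul_assoc, _root_.mul_assoc, w_mul H H' hT hconn hf,
        v_mul H H' hT hconn hf, w_mul H H' hT hconn hf, i_mul H H' hT hconn hf]
      simp only [_root_.mul_assoc]
      rfl
    have hcell : ∀ y : X' ⟶ G, ((H.datum X').v a * (H.datum X').i t * (H.datum X').u b * y) ≫ f =
        (H'.datum X').v a * (H'.datum X').i t * (H'.datum X').u b * (y ≫ f) := by
      intro y
      rw [_root_.mul_assoc, _root_.mul_assoc, v_mul H H' hT hconn hf, i_mul H H' hT hconn hf, hu]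
      simp only [_root_.mul_assoc]
    cases j with
    | true =>
      simp only [↓reduceIte, _root_.one_mul]
      rw [hcell, (hf X' a b t).1]
    | false =>
      simp only [Bool.false_eq_true, ↓reduceIte]
      rw [(hf X' a b t).2, _root_.mul_assoc ((H.datum X').w 1), w_mul H H' hT hconn hf, hcell,
        _root_.mul_assoc ((H'.datum X').w 1)]
  refine ⟨?_, ?_⟩
  · have e := hmul (𝟙_ (Over S)) 1 1
    rw [_root_.one_mul, right_eq_mul] at e
    rw [Hom.one_def, toUnit_unique (toUnit (𝟙_ (Over S))) (𝟙 _), Category.id_comp] at e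
    rw [e, Hom.one_def, toUnit_unique (toUnit (𝟙_ (Over S))) (𝟙 _), Category.id_comp]
  · have e := hmul _ (fst G G) (snd G G)
    rw [show fst G G * snd G G = μ[G] by rw [Hom.mul_def, lift_fst_snd, Category.id_comp]] at e
    rw [e, Hom.mul_def]
    congr 1

include H H' hT hconn in
theorem existsUnique_hom : ∃! f : G ⟶ K, IsMonHom f ∧ i ≫ f = fT ∧ pp ≫ f = fα ∧ pm ≫ f = fm := by
  obtain ⟨f, hf⟩ := exists_prescribed H H' hT hconn
  refine ⟨f, ⟨hf.isMonHom H H' hT hconn, ?_, ?_, ?_⟩, ?_⟩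
  · have h := hf.map_i H H' (𝟙 T)
    rw [← H.i_eq, ← H'.i_eq, Category.id_comp, Category.id_comp] at h
    exact h
  · have h := hf.map_u H H' (Red.gaFn (𝟙 (Red.Ga S)))
    rw [← H.u_eq, ← H'.u_eq, Category.id_comp, Category.id_comp] at h
    exact h
  · have h := hf.map_v H H' (Red.gaFn (𝟙 (Red.Ga S)))
    rw [← H.v_eq, ← H'.v_eq, Category.id_comp, Category.id_comp] at h
    exact h
  rintro f' ⟨hm, hi, hp, hv⟩
  refine eq_of_pieces H hconn (𝟙 G) fun j X k a b t hg => ?_
  rw [Category.comp_id] at hg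
  subst hg
  have hu' : ∀ c, (H.datum X).u c ≫ f' = (H'.datum X).u c := fun c => by
    change (gaPt c ≫ pp) ≫ f' = gaPt c ≫ fα
    rw [Category.assoc, hp]
  have hv' : ∀ c, (H.datum X).v c ≫ f' = (H'.datum X).v c := fun c => by
    change (gaPt c ≫ pm) ≫ f' = gaPt c ≫ fm
    rw [Category.assoc, hv]
  have hi' : ∀ c, (H.datum X).i c ≫ f' = (H'.datum X).i c := fun c => by
    rw [← H.i_eq, ← H'.i_eq, Category.assoc, hi]
  have hw' : (H.datum X).w 1 ≫ f' = (H'.datum X).w 1 := by
    simp only [Datum.w, post_mul, hu', hv']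
  cases j with
  | true =>
    simp only [↓reduceIte, _root_.one_mul]
    rw [(hf X a b t).1, post_mul, post_mul, hu', hv', hi']
  | false =>
    simp only [Bool.false_eq_true, ↓reduceIte]
    rw [(hf X a b t).2, post_mul, post_mul, post_mul, hu', hv', hi', hw']

end GrothLib.RankGen14
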