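import Groth.Agent.Lib.RankGen14.Weyl
import Groth.Agent.Lib.RankComm14.Rule
import Groth.Agent.Lib.RankCell14.Cover
import Groth.Agent.Lib.RankCell14.Weight

/-!
A rank one system in any group from a torus, a root group and a Weyl element subject to relations.
-/

universe u

open CategoryTheory MonoidalCategory CartesianMonoidalCategory MonObj GrpObj AlgebraicGeometry
open CategoryTheory.Limits

set_option backward.isDefEq.respectTransparency false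

namespace GrothLib.RankGen14

open GrothLib.RedPts GrothLib.RankOne GrothLib.RankCell14

variable {S : Scheme.{u}}

theorem isMonHom_of_map_mul {M N : Over S} [GrpObj M] [GrpObj N] (f : M ⟶ N)
    (h : ∀ (X : Over S) (a b : X ⟶ M), (a * b) ≫ f = (a ≫ f) * (b ≫ f)) : IsMonHom f := by
  refine ⟨?_, ?_⟩
  · have e := h (𝟙_ (Over S)) 1 1
    rw [_root_.one_mul, right_eq_mul] at e
    rw [Hom.one_def, toUnit_unique (toUnit (𝟙_ (Over S))) (𝟙 _), Category.id_comp] at e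
    rw [e, Hom.one_def, toUnit_unique (toUnit (𝟙_ (Over S))) (𝟙 _), Category.id_comp]
  · have e := h _ (fst M M) (snd M M)
    rw [show fst M M * snd M M = μ[M] by rw [Hom.mul_def, lift_fst_snd, Category.id_comp]] at e
    rw [e, Hom.mul_def]
    congr 1

/-- An epimorphic cover on which a polynomial non-zero on every fibre has a unit value. -/
theorem exists_cover_poly (Y : Over S) (p : Polynomial Γ(Y.left, ⊤))
    (hp : ∀ P : Ideal Γ(Y.left, ⊤), P.IsPrime → p.map (Ideal.Quotient.mk P) ≠ 0) :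
    ∃ (Y' : Over S) (h : Y' ⟶ Y), Epi h ∧ ∃ t : Γ(Y'.left, ⊤),
      IsUnit (p.eval₂ h.left.appTop.hom t) := by
  let A' := Localization.Away p
  let φ : Γ(Y.left, ⊤) →+* A' := algebraMap _ A'
  obtain ⟨hflat, hsurj⟩ := RingHom.FaithfullyFlat.iff_flat_and_comap_surjective.mp
    (GrothLib.RankComm14.faithfullyFlat_away (R := Γ(Y.left, ⊤)) (A := Γ(Y.left, ⊤)) p hp)
  let q := Spec.map (CommRingCat.ofHom φ)
  haveI : Flat q := (HasRingHomProperty.Spec_iff (P := @Flat)).mpr hflat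
  haveI : Surjective q := ⟨hsurj⟩
  haveI : Epi (pullback.fst Y.left.toSpecΓ q) := Flat.epi_of_flat_of_surjective _
  let P := pullback Y.left.toSpecΓ q
  let ψ : A' →+* Γ(P, ⊤) := (pullback.snd Y.left.toSpecΓ q).appTop.hom.comp (Scheme.ΓSpecIso (CommRingCat.of A')).inv.hom
  refine ⟨Over.mk (pullback.fst Y.left.toSpecΓ q ≫ Y.hom), Over.homMk (pullback.fst _ _) rfl, ?_,
    ψ (algebraMap (Polynomial Γ(Y.left, ⊤)) A' Polynomial.X), ?_⟩
  · exact ⟨fun f g hfg => Over.OverMorphism.ext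
      ((cancel_epi (pullback.fst Y.left.toSpecΓ q)).mp (congrArg (fun k => k.left) hfg))⟩
  · have key : (pullback.fst Y.left.toSpecΓ q).appTop.hom = ψ.comp φ := by
      refine RingHom.ext fun x => ?_
      have h1 := congrArg (fun f => f.appTop.hom ((Scheme.ΓSpecIso Γ(Y.left, ⊤)).inv x))
        (pullback.condition (f := Y.left.toSpecΓ) (g := q))
      simp only [Scheme.Hom.comp_appTop, CommRingCat.hom_comp, RingHom.comp_apply] at h1
      have h2 : Y.left.toSpecΓ.appTop.hom ((Scheme.ΓSpecIso Γ(Y.left, ⊤)).inv x) = x := by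
        rw [Scheme.toSpecΓ_appTop]
        exact congrArg (fun f => f.hom x) (Scheme.ΓSpecIso Γ(Y.left, ⊤)).inv_hom_id
      have h3 : q.appTop.hom ((Scheme.ΓSpecIso Γ(Y.left, ⊤)).inv x) = (Scheme.ΓSpecIso (CommRingCat.of A')).inv (φ x) :=
        (congrArg (fun f => f.hom x) (Scheme.ΓSpecIso_inv_naturality (CommRingCat.ofHom φ))).symm
      erw [h2, h3] at h1
      exact h1
    have hu := (IsLocalization.Away.algebraMap_isUnit (S := A') p).map ψ
    change IsUnit (Polynomial.eval₂ (pullback.fst Y.left.toSpecΓ q).appTop.hom _ p)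
    rw [key, show φ = (algebraMap (Polynomial Γ(Y.left, ⊤)) A').comp Polynomial.C from
      IsScalarTower.algebraMap_eq _ (Polynomial Γ(Y.left, ⊤)) A', ← RingHom.comp_assoc,
      show ψ (algebraMap (Polynomial Γ(Y.left, ⊤)) A' Polynomial.X) =
        (ψ.comp (algebraMap (Polynomial Γ(Y.left, ⊤)) A')) Polynomial.X from rfl, ← Polynomial.hom_eval₂,
      Polynomial.eval₂_C_X]
    exact hu

variable {K T : Over S} [GrpObj K] [GrpObj T]

/-- An epimorphic cover on which a given unit is a value of a faithfully flat character. -/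
theorem exists_cover_char (α : T ⟶ Red.Gm S) [Flat α.left] [Surjective α.left] (Y : Over S) (r : Units Γ(Y.left, ⊤)) :
    ∃ (Y' : Over S) (h : Y' ⟶ Y), Epi h ∧ ∃ t : Y' ⟶ T,
      GmPts.unitOfPt (t ≫ α) = Units.map (h.left.appTop.hom : Γ(Y.left, ⊤) →* Γ(Y'.left, ⊤)) r := by
  let z : Y ⟶ Red.Gm S := GmPts.ptOfUnit r
  haveI : Epi (pullback.fst z.left α.left) := Flat.epi_of_flat_of_surjective _
  let Y' : Over S := Over.mk (pullback.fst z.left α.left ≫ Y.hom)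
  let h : Y' ⟶ Y := Over.homMk (pullback.fst z.left α.left) rfl
  let t : Y' ⟶ T := Over.homMk (pullback.snd z.left α.left) (by
    change pullback.snd z.left α.left ≫ T.hom = pullback.fst z.left α.left ≫ Y.hom
    rw [← Over.w α, ← pullback.condition_assoc, Over.w z])
  refine ⟨Y', h, ⟨fun f g hfg => Over.OverMorphism.ext
    ((cancel_epi (pullback.fst z.left α.left)).mp (congrArg (fun k => k.left) hfg))⟩, t, ?_⟩
  have e : t ≫ α = h ≫ z := Over.OverMorphism.ext pullback.condition.symm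
  rw [e, GmPts.unitOfPt_comp, GmPts.unitOfPt_ptOfUnit]
  rfl

/-- The negative root group attached to a root group and a Weyl element. -/
noncomputable def negMor (fα : Red.Ga S ⟶ K) (h : 𝟙_ (Over S) ⟶ K) : Red.Ga S ⟶ K :=
  (toUnit (Red.Ga S) ≫ h) * (gaPt (-Red.gaFn (𝟙 (Red.Ga S))) ≫ fα) * (toUnit (Red.Ga S) ≫ h)⁻¹

theorem negMor_apply (fα : Red.Ga S ⟶ K) (h : 𝟙_ (Over S) ⟶ K) {X : Over S} (a : Γ(X.left, ⊤)) :
    gaPt a ≫ negMor fα h = negRoot (fun c => gaPt c ≫ fα) (toUnit X ≫ h) a := by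
  simp only [negMor, negRoot, MonObj.comp_mul, GrpObj.comp_inv]
  rw [← Category.assoc, toUnit_unique (gaPt a ≫ toUnit _) (toUnit X), ← Category.assoc, gaPt_comp, map_neg,
    ← gaFn_comp, Category.comp_id, gaFn_gaPt]

/-- A rank one system from a torus, a root group and a Weyl element subject to relations. -/
theorem hyp_of_rels {α : T ⟶ Red.Gm S} [IsMonHom α] [Flat α.left] [Surjective α.left]
    (fT : T ⟶ K) [IsMonHom fT] (fα : Red.Ga S ⟶ K) [IsMonHom fα] (av : Red.Gm S ⟶ T) [IsMonHom av]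
    (h2 : av ≫ α = (𝟙 (Red.Gm S)) ^ 2) (hcomm : ∀ (X : Over S) (s t : X ⟶ T), s * t = t * s)
    (h : 𝟙_ (Over S) ⟶ K)
    (hR : ∀ X : Over S, Rels (fun c : Γ(X.left, ⊤) => gaPt c ≫ fα) (postHom fT X)
      ((GmPts.equiv X).toMonoidHom.comp (postHom α X)) ((postHom av X).comp (GmPts.equiv X).symm.toMonoidHom)
      (toUnit X ≫ h))
    (hc : ∀ X : Over S, (toUnit X ≫ h) * (gaPt (1 : Γ(X.left, ⊤)) ≫ fα) * ((toUnit X ≫ h) * (gaPt 1 ≫ fα)) *
      ((toUnit X ≫ h) * (gaPt 1 ≫ fα)) = 1) :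
    Hyp fT α fα (negMor fα h) av ∧
      ∀ X : Over S, (gaPt (1 : Γ(X.left, ⊤)) ≫ fα) * (gaPt (-1) ≫ negMor fα h) * (gaPt 1 ≫ fα) = toUnit X ≫ h := by
  haveI hm : IsMonHom (negMor fα h) := isMonHom_of_map_mul _ fun X a b => by
    rw [← gaPt_gaFn (S := S) a, ← gaPt_gaFn (S := S) b, ← gaPt_add, negMor_apply fα h, negMor_apply fα h, negMor_apply fα h, (hR X).v_add]
  have hw1 : ∀ X : Over S, (gaPt (1 : Γ(X.left, ⊤)) ≫ fα) * (gaPt (-1) ≫ negMor fα h) * (gaPt 1 ≫ fα) =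
      toUnit X ≫ h := fun X => by
    rw [negMor_apply]
    exact (hR X).weyl_one (hc X)
  have hh : ∀ {X' X : Over S} (k : X' ⟶ X), k ≫ toUnit X ≫ h = toUnit X' ≫ h := fun k => by
    rw [← Category.assoc, toUnit_unique (k ≫ toUnit _) (toUnit _)]
  have hvc : ∀ {X' X : Over S} (k : X' ⟶ X) (a : Γ(X.left, ⊤)),
      k ≫ negRoot (fun c => gaPt c ≫ fα) (toUnit X ≫ h) a =
        negRoot (fun c => gaPt c ≫ fα) (toUnit X' ≫ h) (k.left.appTop a) := fun k a => by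
    rw [← negMor_apply, ← negMor_apply, ← Category.assoc, gaPt_comp]
  have huc : ∀ {X' X : Over S} (k : X' ⟶ X) (a : Γ(X.left, ⊤)),
      k ≫ gaPt a ≫ fα = gaPt (k.left.appTop a) ≫ fα := fun k a => by
    rw [← Category.assoc, gaPt_comp]
  have hW : ∀ (X : Over S) (r : Units Γ(X.left, ⊤)),
      (gaPt (r : Γ(X.left, ⊤)) ≫ fα) *
          negRoot (fun c => gaPt c ≫ fα) (toUnit X ≫ h) (-((r⁻¹ : Units Γ(X.left, ⊤)) : Γ(X.left, ⊤))) *
          (gaPt (r : Γ(X.left, ⊤)) ≫ fα) =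
        (GmPts.ptOfUnit r ≫ av) ≫ fT * (toUnit X ≫ h) := by
    intro X r
    obtain ⟨X', k, hk, t, ht⟩ := exists_cover_char α X r
    rw [← cancel_epi k]
    simp only [MonObj.comp_mul, huc, hvc, hh, map_neg]
    have e := (hR X').weyl_of_torus (hcomm X') (by rw [← negMor_apply]; exact hw1 X')
      (Units.map (k.left.appTop.hom : Γ(X.left, ⊤) →* Γ(X'.left, ⊤)) r) t ht
    refine e.trans ?_
    congr 1
    rw [← Category.assoc k, ← Category.assoc k, GmPts.ptOfUnit_comp]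
    rfl
  refine ⟨⟨inferInstance, inferInstance, inferInstance, hm, inferInstance, ?_, ?_, h2, ?_⟩, hw1⟩
  · intro X t x
    refine ⟨gaPt (Red.gmFn (t ≫ α) * Red.gaFn x), ?_, gaFn_gaPt _⟩
    conv_rhs => rw [← gaPt_gaFn x]
    exact ((hR X).conjU t (Red.gaFn x)).symm
  · intro X t y
    refine ⟨gaPt (((GmPts.unitOfPt (t ≫ α))⁻¹ : Units Γ(X.left, ⊤)) * Red.gaFn y), ?_, ?_⟩
    · rw [negMor_apply]
      conv_rhs => rw [← gaPt_gaFn y, negMor_apply]
      exact ((hR X).conjV t (Red.gaFn y)).symm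
    · rw [gaFn_gaPt, mul_right_comm, ← GmPts.val_unitOfPt, Units.inv_mul, _root_.one_mul]
  · intro X x y hu
    obtain ⟨z, hz⟩ := hu
    obtain ⟨x₀, hx₀⟩ : ∃ a, a = Red.gaFn x := ⟨_, rfl⟩
    obtain ⟨y₀, hy₀⟩ : ∃ a, a = Red.gaFn y := ⟨_, rfl⟩
    rw [← hx₀, ← hy₀] at hz
    refine ⟨gaPt (x₀ * (z⁻¹ : Units Γ(X.left, ⊤))), gaPt (y₀ * (z⁻¹ : Units Γ(X.left, ⊤))), GmPts.ptOfUnit z, ?_, ?_, ?_, ?_⟩
    · rw [GmPts.gmFn_ptOfUnit, hz, ← hx₀, ← hy₀]
    · rw [gaFn_gaPt, GmPts.gmFn_ptOfUnit, Units.inv_mul_cancel_right, hx₀]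
    · rw [gaFn_gaPt, GmPts.gmFn_ptOfUnit, Units.inv_mul_cancel_right, hy₀]
    rw [← gaPt_gaFn x, ← gaPt_gaFn y, ← hx₀, ← hy₀, negMor_apply, negMor_apply, ← Category.assoc (GmPts.ptOfUnit z)]
    let p : Polynomial Γ(X.left, ⊤) :=
      Polynomial.X * (Polynomial.C y₀ - Polynomial.X) * (1 + Polynomial.C x₀ * Polynomial.X)
    obtain ⟨X', k, hk, w, hw⟩ := exists_cover_poly X p fun P hP => by
      haveI := hP
      simp only [p, Polynomial.map_mul, Polynomial.map_sub, Polynomial.map_add, Polynomial.map_one,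
        Polynomial.map_X, Polynomial.map_C]
      refine mul_ne_zero (mul_ne_zero Polynomial.X_ne_zero fun h => ?_) fun h => ?_
      · simpa using congrArg (fun g : Polynomial (_ ⧸ P) => g.coeff 1) h
      · simpa using congrArg (fun g : Polynomial (_ ⧸ P) => g.coeff 0) h
    simp only [p, Polynomial.eval₂_mul, Polynomial.eval₂_sub, Polynomial.eval₂_add, Polynomial.eval₂_one,
      Polynomial.eval₂_X, Polynomial.eval₂_C, IsUnit.mul_iff] at hw
    obtain ⟨⟨⟨c₁, hc₁⟩, ⟨c₂, hc₂⟩⟩, ⟨z₁, hz₁⟩⟩ := hw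
    rw [← cancel_epi k]
    simp only [MonObj.comp_mul, huc, hvc]
    rw [← Category.assoc k (GmPts.ptOfUnit z ≫ av), ← Category.assoc k (GmPts.ptOfUnit z), GmPts.ptOfUnit_comp]
    simp only [map_mul]
    set f := k.left.appTop.hom with hf
    have hWX : ∀ r : Units Γ(X'.left, ⊤), (gaPt (r : Γ(X'.left, ⊤)) ≫ fα) *
          negRoot (fun c => gaPt c ≫ fα) (toUnit X' ≫ h) (-((r⁻¹ : Units Γ(X'.left, ⊤)) : Γ(X'.left, ⊤))) *
          (gaPt (r : Γ(X'.left, ⊤)) ≫ fα) = (GmPts.ptOfUnit r ≫ av) ≫ fT * (toUnit X' ≫ h) := hW X'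
    obtain ⟨z', hz'⟩ : ∃ z' : Units Γ(X'.left, ⊤), z' = Units.map (f : Γ(X.left, ⊤) →* Γ(X'.left, ⊤)) z * z₁⁻¹ := ⟨_, rfl⟩
    have e1 := (hR X').rule_unit (hcomm X') hWX (f x₀) c₁ z₁ (by rw [hz₁, hc₁])
    have hz'' : (z' : Γ(X'.left, ⊤)) = 1 + f x₀ * ((z₁⁻¹ : Units Γ(X'.left, ⊤)) : Γ(X'.left, ⊤)) * (c₂ : Γ(X'.left, ⊤)) := by
      rw [hz', Units.val_mul, Units.coe_map, MonoidHom.coe_coe, hz, map_add, map_mul, map_one, hc₂]
      linear_combination z₁.mul_inv + (-((z₁⁻¹ : Units Γ(X'.left, ⊤)) : Γ(X'.left, ⊤))) * hz₁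
    have e2 := (hR X').rule_unit (hcomm X') hWX (f x₀ * ((z₁⁻¹ : Units Γ(X'.left, ⊤)) : Γ(X'.left, ⊤))) c₂ z' hz''
    change (fun c => gaPt c ≫ fα) (f x₀) * negRoot (fun c => gaPt c ≫ fα) (toUnit X' ≫ h) (f y₀) =
      negRoot (fun c => gaPt c ≫ fα) (toUnit X' ≫ h) (f y₀ * f _) * _ * (fun c => gaPt c ≫ fα) (f x₀ * f _)
    rw [show f y₀ = (c₁ : Γ(X'.left, ⊤)) + c₂ by rw [hc₁, hc₂]; ring, (hR X').v_add, ← _root_.mul_assoc, e1,
      _root_.mul_assoc _ ((fun c => gaPt c ≫ fα) _), e2]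
    have e3 := (hR X').conjV (((postHom av X').comp (GmPts.equiv X').symm.toMonoidHom) z₁)
      ((c₂ : Γ(X'.left, ⊤)) * ((z'⁻¹ : Units Γ(X'.left, ⊤)) : Γ(X'.left, ⊤)))
    rw [(hR X').χav, mul_inv_eq_iff_eq_mul] at e3
    rw [show ∀ (a b c d e' : X' ⟶ K), a * b * (c * d * e') = a * (b * c) * d * e' from fun a b c d e' => by group, e3,
      ← _root_.mul_assoc, ← (hR X').v_add, _root_.mul_assoc (negRoot _ _ _), ← map_mul, ← map_mul]
    have hzi : ((z'⁻¹ : Units Γ(X'.left, ⊤)) : Γ(X'.left, ⊤)) = (z₁ : Γ(X'.left, ⊤)) * f ((z⁻¹ : Units Γ(X.left, ⊤)) : Γ(X.left, ⊤)) := by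
      rw [hz', _root_.mul_inv_rev, _root_.inv_inv, Units.val_mul, ← map_inv, Units.coe_map]
      rfl
    congr 3
    · rw [_root_.mul_inv_rev, Units.val_mul, hzi]
      have hzz : f (z : Γ(X.left, ⊤)) * f ((z⁻¹ : Units Γ(X.left, ⊤)) : Γ(X.left, ⊤)) = 1 := by
        rw [← map_mul, Units.mul_inv, map_one]
      rw [hz, map_add, map_mul, map_one] at hzz
      have hy : f y₀ = (c₁ : Γ(X'.left, ⊤)) + c₂ := by rw [hc₁, hc₂]; ring
      rw [hy] at hzz
      rw [← hc₁] at hz₁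
      linear_combination (-(c₁ : Γ(X'.left, ⊤)) * ((z₁⁻¹ : Units Γ(X'.left, ⊤)) : Γ(X'.left, ⊤))) * hzz +
        ((c₂ : Γ(X'.left, ⊤)) * f ((z⁻¹ : Units Γ(X.left, ⊤)) : Γ(X.left, ⊤)) * ((z₁⁻¹ : Units Γ(X'.left, ⊤)) : Γ(X'.left, ⊤))) * z₁.mul_inv +
        (-((c₁ : Γ(X'.left, ⊤)) + c₂) * f ((z⁻¹ : Units Γ(X.left, ⊤)) : Γ(X.left, ⊤)) * ((z₁⁻¹ : Units Γ(X'.left, ⊤)) : Γ(X'.left, ⊤))) * hz₁ +
        (((c₁ : Γ(X'.left, ⊤)) + c₂) * f ((z⁻¹ : Units Γ(X.left, ⊤)) : Γ(X.left, ⊤))) * z₁.mul_inv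
    · rw [hz', mul_inv_cancel_comm_assoc]
      rfl
    · rw [hzi]
      linear_combination (f x₀ * f ((z⁻¹ : Units Γ(X.left, ⊤)) : Γ(X.left, ⊤))) * z₁.mul_inv

end GrothLib.RankGen14
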