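import Groth.Agent.Lib.RankOne.Abstract
import Mathlib.Tactic.Group
import Mathlib.Tactic.LinearCombination

/-!
A rank one datum from a torus, one root group and a Weyl element subject to relations.
-/

namespace GrothLib.RankGen14

open GrothLib.RankOne

variable {A : Type*} [CommRing A] {Ti : Type*} [Group Ti] {P : Type*} [Group P]

/-- The relations of a Weyl element with a torus and a root group. -/
structure Rels (u : A → P) (i : Ti →* P) (χ : Ti →* Aˣ) (av : Aˣ →* Ti) (h : P) : Prop where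
  u_add : ∀ a b, u (a + b) = u a * u b
  conjU : ∀ t a, i t * u a * (i t)⁻¹ = u (χ t * a)
  χav : ∀ z, χ (av z) = z * z
  hi : ∀ t, h * i t * h⁻¹ = i (t * (av (χ t))⁻¹)
  sq : h * h = i (av (-1))

variable {u : A → P} {i : Ti →* P} {χ : Ti →* Aˣ} {av : Aˣ →* Ti} {h : P}

/-- The negative root group. -/
def negRoot (u : A → P) (h : P) (a : A) : P := h * u (-a) * h⁻¹

namespace Rels

variable (R : Rels u i χ av h)

include R

theorem u_neg (a : A) : u (-a) = (u a)⁻¹ := by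
  have h0 : u 0 = 1 := by
    have := R.u_add 0 0
    rw [add_zero] at this
    exact left_eq_mul.mp this
  exact eq_inv_of_mul_eq_one_left (by rw [← R.u_add, neg_add_cancel, h0])

theorem v_add (a b : A) : negRoot u h (a + b) = negRoot u h a * negRoot u h b := by
  simp only [negRoot, neg_add, R.u_add]; group

theorem sq_comm (a : A) : h * h * u a = u a * (h * h) := by
  have e := R.conjU (av (-1)) a
  rw [R.χav, mul_inv_eq_iff_eq_mul] at e
  rw [R.sq, e]
  congr 2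
  simp

theorem h_v (a : A) : h * negRoot u h a * h⁻¹ = u (-a) := by
  rw [negRoot, show h * (h * u (-a) * h⁻¹) * h⁻¹ = h * h * u (-a) * (h * h)⁻¹ by group, R.sq_comm,
    mul_inv_cancel_right]

theorem h_u (a : A) : h * u a * h⁻¹ = negRoot u h (-a) := by rw [negRoot, neg_neg]

theorem hinv_i (t : Ti) : h⁻¹ * i t * h = i (t * (av (χ t))⁻¹) := by
  have e := R.hi (t * (av (χ t))⁻¹)
  have e2 : t * (av (χ t))⁻¹ * (av (χ (t * (av (χ t))⁻¹)))⁻¹ = t := by
    rw [map_mul χ, map_inv, R.χav, show χ t * (χ t * χ t)⁻¹ = (χ t)⁻¹ by group, map_inv]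
    group
  rw [e2] at e
  rw [← e]; group

theorem conjV (t : Ti) (a : A) : i t * negRoot u h a * (i t)⁻¹ = negRoot u h (((χ t)⁻¹ : Aˣ) * a) := by
  calc _ = h * ((h⁻¹ * i t * h) * u (-a) * (h⁻¹ * i t * h)⁻¹) * h⁻¹ := by simp only [negRoot]; group
    _ = _ := by
      rw [R.hinv_i, R.conjU, negRoot, map_mul χ, map_inv, R.χav, mul_neg]
      congr 4
      rw [show χ t * (χ t * χ t)⁻¹ = (χ t)⁻¹ by group]

theorem weyl_one (hc : (h * u 1) * (h * u 1) * (h * u 1) = 1) :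
    u 1 * negRoot u h (-1) * u 1 = h := by
  have h4 : h * h * (h * h) = 1 := by
    rw [R.sq, ← map_mul, ← map_mul, neg_mul_neg, one_mul, map_one, map_one]
  have e : u 1 * h * u 1 * h * u 1 = h⁻¹ := by
    refine eq_inv_of_mul_eq_one_right ?_
    rw [← hc]; group
  calc u 1 * negRoot u h (-1) * u 1 = u 1 * h * u 1 * h⁻¹ * u 1 := by simp only [negRoot, neg_neg]; group
    _ = u 1 * h * u 1 * h * ((h * h)⁻¹ * u 1) := by group
    _ = u 1 * h * u 1 * h * (u 1 * (h * h)⁻¹) := by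
      rw [show (h * h)⁻¹ * u 1 = u 1 * (h * h)⁻¹ by rw [inv_mul_eq_iff_eq_mul, ← mul_assoc, R.sq_comm, mul_inv_cancel_right]]
    _ = h⁻¹ * (h * h)⁻¹ := by rw [← e]; group
    _ = h * (h * h * (h * h))⁻¹ := by group
    _ = h := by rw [h4, inv_one, mul_one]

theorem weyl_of_torus (hcomm : ∀ s t : Ti, s * t = t * s) (h1 : u 1 * negRoot u h (-1) * u 1 = h) (r : Aˣ) (t : Ti)
    (ht : χ t = r) : u r * negRoot u h (-((r⁻¹ : Aˣ) : A)) * u r = i (av r) * h := by
  have e : i t * h * (i t)⁻¹ = i (av r) * h := by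
    have e1 : i t * h * (i t)⁻¹ = i t * (h * i t⁻¹ * h⁻¹) * h := by rw [map_inv]; group
    rw [e1, R.hi, ← map_mul, map_inv, map_inv, inv_inv, mul_inv_cancel_left, ht]
  rw [← e]
  conv_rhs => rw [← h1]
  rw [show i t * (u 1 * negRoot u h (-1) * u 1) * (i t)⁻¹ =
      (i t * u 1 * (i t)⁻¹) * (i t * negRoot u h (-1) * (i t)⁻¹) * (i t * u 1 * (i t)⁻¹) by group,
    R.conjU, R.conjV, ht, mul_one, mul_neg, mul_one]

theorem weyl_swap (hW : ∀ r : Aˣ, u r * negRoot u h (-((r⁻¹ : Aˣ) : A)) * u r = i (av r) * h) (s : Aˣ) :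
    negRoot u h (-((s⁻¹ : Aˣ) : A)) * u s * negRoot u h (-((s⁻¹ : Aˣ) : A)) = i (av s) * h := by
  have e : h * (i (av s⁻¹) * h) * h⁻¹ = i (av s) * h := by
    rw [show h * (i (av s⁻¹) * h) * h⁻¹ = (h * i (av s⁻¹) * h⁻¹) * h by group, R.hi, R.χav]
    congr 2
    rw [← map_inv, ← map_mul]
    congr 1
    group
  rw [← e, ← hW s⁻¹, inv_inv,
    show h * (u ((s⁻¹ : Aˣ) : A) * negRoot u h (-(s : A)) * u ((s⁻¹ : Aˣ) : A)) * h⁻¹ =
      (h * u ((s⁻¹ : Aˣ) : A) * h⁻¹) * (h * negRoot u h (-(s : A)) * h⁻¹) * (h * u ((s⁻¹ : Aˣ) : A) * h⁻¹) by group,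
    R.h_u, R.h_v, neg_neg]

/-- The commutation rule when the second argument is a unit. -/
theorem rule_unit (hcomm : ∀ s t : Ti, s * t = t * s)
    (hW : ∀ r : Aˣ, u r * negRoot u h (-((r⁻¹ : Aˣ) : A)) * u r = i (av r) * h)
    (x : A) (y z : Aˣ) (hz : (z : A) = 1 + x * y) :
    u x * negRoot u h (y : A) =
      negRoot u h ((y : A) * (z⁻¹ : Aˣ)) * i (av z) * u (x * (z⁻¹ : Aˣ)) := by
  obtain ⟨r, hr⟩ : ∃ r : Aˣ, r = -y⁻¹ := ⟨_, rfl⟩
  obtain ⟨s, hs⟩ : ∃ s : Aˣ, s = z * y⁻¹ := ⟨_, rfl⟩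
  have hy : (y : A) = -((r⁻¹ : Aˣ) : A) := by rw [hr, inv_neg, inv_inv, Units.val_neg, neg_neg]
  have hsx : x + -(r : A) = (s : A) := by
    rw [hr, hs, Units.val_neg, neg_neg, Units.val_mul, hz]
    linear_combination -x * y.mul_inv
  have e1 : negRoot u h (y : A) = u (-(r : A)) * (i (av r) * h) * u (-(r : A)) := by
    rw [← hW r, ← hy, R.u_neg]; group
  have e2 : u (s : A) = negRoot u h ((s⁻¹ : Aˣ) : A) * (i (av s) * h) * negRoot u h ((s⁻¹ : Aˣ) : A) := by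
    have hn : negRoot u h ((s⁻¹ : Aˣ) : A) = (negRoot u h (-((s⁻¹ : Aˣ) : A)))⁻¹ := by
      simp only [negRoot, neg_neg, R.u_neg]; group
    rw [← R.weyl_swap hW s, hn]; group
  have e3 : ∀ c : A, (i (av r) * h)⁻¹ * negRoot u h c * (i (av r) * h) = u (-((r * r : Aˣ) * c)) := by
    intro c
    have e4 := R.conjV (av r)⁻¹ c
    rw [map_inv, map_inv, inv_inv, inv_inv, R.χav] at e4
    rw [show (i (av r) * h)⁻¹ * negRoot u h c * (i (av r) * h) = h⁻¹ * ((i (av r))⁻¹ * negRoot u h c * i (av r)) * h by group,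
      e4, negRoot]
    group
  have e5 : (i (av s) * h) * (i (av r) * h) = i (av z) := by
    rw [show (i (av s) * h) * (i (av r) * h) = i (av s) * (h * i (av r) * h⁻¹) * (h * h) by group, R.hi, R.χav, R.sq,
      ← map_mul, ← map_mul, ← map_inv, ← map_mul, ← map_mul, ← map_mul]
    congr 2
    apply Units.ext
    rw [hs, hr, neg_mul_neg, mul_inv_rev, inv_inv]
    simp [mul_assoc]
  calc u x * negRoot u h (y : A) = u (s : A) * (i (av r) * h) * u (-(r : A)) := by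
        rw [e1, ← hsx, R.u_add]; group
    _ = negRoot u h ((s⁻¹ : Aˣ) : A) * ((i (av s) * h) * (i (av r) * h)) *
        ((i (av r) * h)⁻¹ * negRoot u h ((s⁻¹ : Aˣ) : A) * (i (av r) * h)) * u (-(r : A)) := by rw [e2]; group
    _ = _ := by
      rw [e3, e5, mul_assoc _ (u _), ← R.u_add]
      congr 3
      · rw [hs, mul_inv_rev, inv_inv, Units.val_mul, mul_comm]
      · rw [hs, hr, mul_inv_rev, inv_inv, neg_mul_neg]
        simp only [Units.val_mul, Units.val_neg, neg_neg]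
        linear_combination (-(((y⁻¹ : Aˣ) : A) * ((z⁻¹ : Aˣ) : A))) * hz * 0 +
          ((z⁻¹ : Aˣ) : A) * (x * y.mul_inv) * 0 + (-(((y⁻¹ : Aˣ) : A) * ((z⁻¹ : Aˣ) : A))) * y.mul_inv +
          ((z⁻¹ : Aˣ) : A) * (((y⁻¹ : Aˣ) : A)) * hz + (x * ((z⁻¹ : Aˣ) : A)) * y.mul_inv +
          (-((y⁻¹ : Aˣ) : A)) * z.mul_inv

end Rels

end GrothLib.RankGen14
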